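import Groth.Agent.CartierDim.Basic
import Groth.Agent.RegDual.Basic
import Groth.Agent.LocFree.Props
import Groth.Agent.QC.FiniteType
import Groth.Agent.LocFree.Rank
import Mathlib

/-!
# Local freeness from the stalks, dimension of stalks
-/

set_option autoImplicit false

universe u

open CategoryTheory AlgebraicGeometry TopologicalSpace

namespace Groth.Agent.RegDual

attribute [local instance] specializationOrder

variable {X : Scheme.{u}}

theorem ringKrullDim_stalk_le_topologicalKrullDim (x : X) :
    ringKrullDim (X.presheaf.stalk x) ≤ topologicalKrullDim X := by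
  rw [ringKrullDim_stalk_eq_coheight, Groth.Agent.CartierDim.topDim_eq]
  exact Order.coheight_le_krullDim x

theorem finite_stalk [IsLocallyNoetherian X] {F : X.Modules} (hF : Coh.IsCoh F) (x : X) :
    Module.Finite (X.presheaf.stalk x) (F.presheaf.stalk x) := by
  haveI := hF.1
  obtain ⟨U, hU, hx, -⟩ := exists_isAffineOpen_mem_and_subset (x := x) (U := ⊤) trivial
  haveI := QC.finite_sections hU (hM := hF.1) hF.2
  exact LocFree.finite_stalk hU hF.1 hx

theorem isFinLocFree_of_free_stalk [IsLocallyNoetherian X] {F : X.Modules} (hF : Coh.IsCoh F)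
    (h : ∀ x : X, Module.Free (X.presheaf.stalk x) (F.presheaf.stalk x)) : FlatMod.IsFinLocFree F :=
  LocFree.isFinLocFree_of_isFP_of_flat hF.1 (QC.isFP_of_isQCoh_of_isFT (hM := hF.1) hF.2) fun x => by
    haveI := h x
    exact (inferInstance : Module.Flat (X.presheaf.stalk x) (F.presheaf.stalk x))

end Groth.Agent.RegDual
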